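import Mathlib
import Groth.Agent.Lib.Helper2.TorLESR
import Groth.Agent.Lib.Helper2.TorLin
import Groth.Agent.Lib.Helper2.TorBalLES
import Groth.Agent.Lib.Helper2.TorOne
import Groth.Agent.Lib.Helper2.TorBalLin
import Groth.Agent.Lib.Helper5.HBLift.B

set_option autoImplicit false
open TensorProduct Function CategoryTheory CategoryTheory.Limits
open Groth.Agent.H2.TorBal

universe u

namespace Groth.Agent.H5.TorCrit

section bc
variable {A : Type u} [CommRing A] (I : Ideal A)
  {L F N : Type u} [AddCommGroup L] [Module A L] [AddCommGroup F] [Module A F]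
  [AddCommGroup N] [Module A N] [Module (A ⧸ I) N] [IsScalarTower A (A ⧸ I) N]

/-- For an `A/I`-module `N`, injectivity of `N ⊗ L → N ⊗ F` can be tested after base change. -/
theorem lTensor_injective_of_baseChange (ι : L →ₗ[A] F)
    (h : Injective ((ι.baseChange (A ⧸ I)).lTensor N)) : Injective (ι.lTensor N) := by
  let eL := AlgebraTensorModule.cancelBaseChange A (A ⧸ I) (A ⧸ I) N L
  let eF := AlgebraTensorModule.cancelBaseChange A (A ⧸ I) (A ⧸ I) N F
  have hnat : ∀ t, eF ((ι.baseChange (A ⧸ I)).lTensor N t) = ι.lTensor N (eL t) := by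
    intro t
    induction t using TensorProduct.induction_on with
    | zero => simp
    | add a b ha hb => simp only [map_add, ha, hb]
    | tmul n x =>
      induction x using TensorProduct.induction_on with
      | zero => simp
      | add a b ha hb => simp only [tmul_add, map_add, ha, hb]
      | tmul r l => simp [eF, eL]
  intro x y hxy
  apply eL.symm.injective
  apply h
  apply eF.injective
  rw [hnat, hnat, LinearEquiv.apply_symm_apply, LinearEquiv.apply_symm_apply, hxy]

end bc

section claimA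
variable {A : Type u} [CommRing A] (I : Ideal A)

/-- The statement of Claim A for a given range `s`. -/
def ClaimA (s : ℕ) : Prop :=
  ∀ (M : Type u) [AddCommGroup M] [Module A M],
    Module.Flat (A ⧸ I) ((A ⧸ I) ⊗[A] M) →
    (∀ i, 1 ≤ i → i ≤ s → IsZero (torObj i (ModuleCat.of A M) (ModuleCat.of A (A ⧸ I)))) →
    ∀ (N : Type u) [AddCommGroup N] [Module A N], (∀ a ∈ I, ∀ n : N, a • n = 0) →
    ∀ i, 1 ≤ i → i ≤ s → IsZero (torObj i (ModuleCat.of A M) (ModuleCat.of A N))

theorem claimA_step (s : ℕ) (ih : ClaimA I s)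
    (M K F : Type u) [AddCommGroup M] [Module A M] [AddCommGroup K] [Module A K]
    [AddCommGroup F] [Module A F] [Module.Flat A F]
    (ι : K →ₗ[A] F) (π : F →ₗ[A] M) (hι : Injective ι) (hex : Exact ι π) (hπ : Surjective π)
    (hflat : Module.Flat (A ⧸ I) ((A ⧸ I) ⊗[A] M))
    (hM : ∀ i, 1 ≤ i → i ≤ s + 1 →
      IsZero (torObj i (ModuleCat.of A M) (ModuleCat.of A (A ⧸ I))))
    (N : Type u) [AddCommGroup N] [Module A N] (hN : ∀ a ∈ I, ∀ n : N, a • n = 0)
    (i : ℕ) (hi1 : 1 ≤ i) (his : i ≤ s + 1) :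
    IsZero (torObj i (ModuleCat.of A M) (ModuleCat.of A N)) := by
  let T := scOfLinearMaps ι π hex
  have hT : T.ShortExact := scOfLinearMaps_shortExact ι π hι hex hπ
  haveI hFflat : Module.Flat A (ModuleCat.of A F) := inferInstanceAs (Module.Flat A F)
  have hF : ∀ (j : ℕ) (S : ModuleCat.{u} A), IsZero (torObj (j + 1) (ModuleCat.of A F) S) :=
    fun j S => isZero_tor_succ_of_flat_left _ S j
  -- `K` satisfies the hypotheses for `s`
  have hK_tor : ∀ i, 1 ≤ i → i ≤ s →
      IsZero (torObj i (ModuleCat.of A K) (ModuleCat.of A (A ⧸ I))) := by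
    intro i hi1 his
    obtain ⟨j, rfl⟩ : ∃ j, i = j + 1 := ⟨i - 1, by omega⟩
    exact isZero_tor_X₁_left T hT (ModuleCat.of A (A ⧸ I)) (j + 1)
      (hM (j + 1 + 1) (by omega) (by omega)) (hF j _)
  -- base change of the presentation
  have hπb : Surjective (π.baseChange (A ⧸ I)) := LinearMap.lTensor_surjective (A ⧸ I) hπ
  have hexb : Exact (ι.baseChange (A ⧸ I)) (π.baseChange (A ⧸ I)) :=
    lTensor_exact (A ⧸ I) hex hπ
  have hιb : Injective (ι.baseChange (A ⧸ I)) := by
    obtain ⟨e⟩ := nonempty_tor_symm (ModuleCat.of A M) (ModuleCat.of A (A ⧸ I)) 1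
    have h1 : IsZero (torObj 1 (ModuleCat.of A (A ⧸ I)) (ModuleCat.of A M)) :=
      (hM 1 le_rfl (by omega)).of_iso e.symm
    exact Groth.Agent.H2.TorOne.lTensor_injective_of_isZero_tor_one (A ⧸ I) M h1 ι π hι hex hπ
  haveI hK_flat : Module.Flat (A ⧸ I) ((A ⧸ I) ⊗[A] K) :=
    Groth.Agent.H5.HBLift.flat_of_exact (ι.baseChange (A ⧸ I)) (π.baseChange (A ⧸ I))
      hιb hπb hexb
  by_cases h1 : i = 1
  · subst h1
    have hNt : Module.IsTorsionBySet A N (I : Set A) := fun n a => hN a.1 a.2 n
    letI := hNt.module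
    haveI : IsScalarTower A (A ⧸ I) N := hNt.isScalarTower
    have hinj : Injective (ι.lTensor N) :=
      lTensor_injective_of_baseChange I ι
        (LinearMap.lTensor_injective_of_exact_of_flat (π.baseChange (A ⧸ I)) hπb
          (ι.baseChange (A ⧸ I)) hιb hexb N)
    have h2 : IsZero (torObj 1 (ModuleCat.of A N) (ModuleCat.of A M)) :=
      (Groth.Agent.H2.TorOne.isZero_tor_one_iff N M ι π hι hex hπ).mpr hinj
    obtain ⟨e⟩ := nonempty_tor_symm (ModuleCat.of A N) (ModuleCat.of A M) 1
    exact h2.of_iso e.symm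
  · obtain ⟨j, rfl⟩ : ∃ j, i = j + 1 := ⟨i - 1, by omega⟩
    have hj1 : 1 ≤ j := by omega
    exact isZero_tor_X₃_left T hT (ModuleCat.of A N) j (hF j _)
      (ih K hK_flat hK_tor N hN j hj1 (by omega))

theorem claimA (s : ℕ) : ClaimA I s := by
  induction s with
  | zero =>
    intro M _ _ _ _ N _ _ _ i h1 h0
    omega
  | succ s ih =>
    intro M _ _ hflat hM N _ _ hN i hi1 his
    exact claimA_step I s ih M (LinearMap.ker (Finsupp.linearCombination A (id : M → M)))
      (M →₀ A) (LinearMap.ker (Finsupp.linearCombination A (id : M → M))).subtype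
      (Finsupp.linearCombination A (id : M → M)) Subtype.val_injective
      (LinearMap.exact_subtype_ker_map _) (Finsupp.linearCombination_id_surjective A M)
      hflat hM N hN i hi1 his

end claimA

end Groth.Agent.H5.TorCrit
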