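import Mathlib
import Groth.Agent.Lib.Helper5.TorCrit.A
import Groth.Agent.Lib.Helper2.TorFlatBC

set_option autoImplicit false
open TensorProduct Function CategoryTheory CategoryTheory.Limits
open Groth.Agent.H2.TorBal

universe u

namespace Groth.Agent.H5.TorCrit

section torsion
variable {A : Type u} [CommRing A] (x : A)
  (M N : Type u) [AddCommGroup M] [Module A M] [AddCommGroup N] [Module A N]

/-- If `M_x` is flat over `A_x`, higher Tor's of `M` are `x`-power torsion. -/
theorem exists_pow_smul_eq_zero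
    [Module.Flat (Localization.Away x) (LocalizedModule (Submonoid.powers x) M)] (j : ℕ)
    (t : torObj (j + 1) (ModuleCat.of A M) (ModuleCat.of A N)) : ∃ k : ℕ, x ^ k • t = 0 := by
  haveI : Module.Flat A (Localization.Away x) :=
    IsLocalization.flat (Localization.Away x) (Submonoid.powers x)
  obtain ⟨e⟩ := Groth.Agent.H2.TorBC.nonempty_flat_baseChange (A := A) (A' := Localization.Away x) N (j + 1) M
  haveI : Module.Flat (Localization.Away x) (Localization.Away x ⊗[A] M) :=
    Module.Flat.of_linearEquiv (LocalizedModule.equivTensorProduct (Submonoid.powers x) M).symm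
  haveI : Module.Flat (Localization.Away x)
      (ModuleCat.of (Localization.Away x) (Localization.Away x ⊗[A] M)) :=
    inferInstanceAs (Module.Flat (Localization.Away x) (Localization.Away x ⊗[A] M))
  have hz : IsZero (torObj (j + 1)
      (ModuleCat.of (Localization.Away x) (Localization.Away x ⊗[A] M))
      (ModuleCat.of (Localization.Away x) (Localization.Away x ⊗[A] N))) :=
    isZero_tor_succ_of_flat_left _ _ j
  haveI := ModuleCat.subsingleton_of_isZero hz
  have h0 : (1 : Localization.Away x) ⊗ₜ[A] t = 0 := e.injective (Subsingleton.elim _ _)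
  obtain ⟨s, hs⟩ := (IsLocalizedModule.eq_zero_iff (Submonoid.powers x)
    (TensorProduct.mk A (Localization.Away x) _ 1)).mp h0
  obtain ⟨k, hk⟩ := s.2
  have hk' : x ^ k = (s : A) := hk
  exact ⟨k, by rw [hk']; exact hs⟩

end torsion

section reduction
variable {A : Type u} [CommRing A] (x : A) (M : Type u) [AddCommGroup M] [Module A M]
  [Module.Flat (Localization.Away x) (LocalizedModule (Submonoid.powers x) M)]

theorem reduction (𝒮 : A → Prop) (s : ℕ)
    (hP : ∀ (N : Type u) [AddCommGroup N] [Module A N], (∀ a, 𝒮 a → ∀ n : N, a • n = 0) →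
      (∀ n : N, x • n = 0) →
      ∀ i, 1 ≤ i → i ≤ s + 1 → IsZero (torObj i (ModuleCat.of A M) (ModuleCat.of A N)))
    (N : Type u) [AddCommGroup N] [Module A N] (hN : ∀ a, 𝒮 a → ∀ n : N, a • n = 0)
    (i : ℕ) (hi1 : 1 ≤ i) (his : i ≤ s) :
    IsZero (torObj i (ModuleCat.of A M) (ModuleCat.of A N)) := by
  let μ : N →ₗ[A] N := x • LinearMap.id
  have hμ : ∀ n, μ n = x • n := fun n => rfl
  have hex₁ : Exact (LinearMap.ker μ).subtype μ.rangeRestrict := by
    intro n
    rw [Subtype.ext_iff]
    simp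
  let S₁ := scOfLinearMaps (LinearMap.ker μ).subtype μ.rangeRestrict hex₁
  have hS₁ : S₁.ShortExact :=
    scOfLinearMaps_shortExact _ _ Subtype.val_injective hex₁ μ.surjective_rangeRestrict
  have hex₂ : Exact (LinearMap.range μ).subtype (LinearMap.range μ).mkQ :=
    LinearMap.exact_subtype_mkQ _
  let S₂ := scOfLinearMaps (LinearMap.range μ).subtype (LinearMap.range μ).mkQ hex₂
  have hS₂ : S₂.ShortExact :=
    scOfLinearMaps_shortExact _ _ Subtype.val_injective hex₂ (Submodule.mkQ_surjective _)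
  -- vanishing
  have hker : IsZero (torObj i (ModuleCat.of A M) (ModuleCat.of A (LinearMap.ker μ))) :=
    hP (LinearMap.ker μ) (fun a ha n => Subtype.ext (hN a ha n.1))
      (fun n => Subtype.ext n.2) i hi1 (by omega)
  have hcok : IsZero (torObj (i + 1) (ModuleCat.of A M)
      (ModuleCat.of A (N ⧸ LinearMap.range μ))) := by
    refine hP (N ⧸ LinearMap.range μ) ?_ ?_ (i + 1) (by omega) (by omega)
    · intro a ha n
      obtain ⟨n, rfl⟩ := Submodule.mkQ_surjective _ n
      rw [← map_smul, hN a ha n, map_zero]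
    · intro n
      obtain ⟨n, rfl⟩ := Submodule.mkQ_surjective _ n
      rw [← map_smul]
      exact (Submodule.Quotient.mk_eq_zero _).mpr ⟨n, rfl⟩
  -- monos
  obtain ⟨⟨w₀, ex⟩, -⟩ := tor_les_right (ModuleCat.of A M) S₁ hS₁ i
  haveI m₁ : Mono (((Tor (ModuleCat.{u} A) i).obj (ModuleCat.of A M)).map S₁.g) :=
    ex.mono_g (hker.eq_of_src _ _)
  obtain ⟨-, δ, w₁, w₂, ex1, ex2⟩ := tor_les_right (ModuleCat.of A M) S₂ hS₂ i
  haveI m₂ : Mono (((Tor (ModuleCat.{u} A) i).obj (ModuleCat.of A M)).map S₂.f) :=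
    ex2.mono_g (hcok.eq_of_src _ _)
  let g₁ : ModuleCat.of A N ⟶ ModuleCat.of A (LinearMap.range μ) :=
    ModuleCat.ofHom μ.rangeRestrict
  let f₂ : ModuleCat.of A (LinearMap.range μ) ⟶ ModuleCat.of A N :=
    ModuleCat.ofHom (LinearMap.range μ).subtype
  haveI m₁' : Mono (((Tor (ModuleCat.{u} A) i).obj (ModuleCat.of A M)).map g₁) := m₁
  haveI m₂' : Mono (((Tor (ModuleCat.{u} A) i).obj (ModuleCat.of A M)).map f₂) := m₂
  have hcomp : g₁ ≫ f₂ = x • 𝟙 (ModuleCat.of A N) := by
    ext n
    rfl
  have hmap : ((Tor (ModuleCat.{u} A) i).obj (ModuleCat.of A M)).map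
      (x • 𝟙 (ModuleCat.of A N)) = x • 𝟙 _ := by
    rw [tor_map_smul_right, CategoryTheory.Functor.map_id]
  have hmono : Mono (x • 𝟙 (torObj i (ModuleCat.of A M) (ModuleCat.of A N))) := by
    rw [← hmap, ← hcomp, CategoryTheory.Functor.map_comp]
    exact mono_comp _ _
  have hinj : ∀ t : torObj i (ModuleCat.of A M) (ModuleCat.of A N), x • t = 0 → t = 0 := by
    intro t ht
    have h := (ModuleCat.mono_iff_injective _).mp hmono
    apply h
    rw [map_zero]
    exact ht
  have hpow : ∀ (k : ℕ) (t : torObj i (ModuleCat.of A M) (ModuleCat.of A N)),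
      x ^ k • t = 0 → t = 0 := by
    intro k
    induction k with
    | zero => intro t ht; simpa using ht
    | succ k ih =>
      intro t ht
      apply ih t
      apply hinj
      rw [smul_smul, ← pow_succ']
      exact ht
  obtain ⟨j, rfl⟩ : ∃ j, i = j + 1 := ⟨i - 1, by omega⟩
  haveI : Subsingleton (torObj (j + 1) (ModuleCat.of A M) (ModuleCat.of A N)) := by
    refine ⟨fun a b => ?_⟩
    have h0 : ∀ t : torObj (j + 1) (ModuleCat.of A M) (ModuleCat.of A N), t = 0 := by
      intro t
      obtain ⟨k, hk⟩ := exists_pow_smul_eq_zero x M N j t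
      exact hpow k t hk
    rw [h0 a, h0 b]
  exact ModuleCat.isZero_of_subsingleton _

end reduction

end Groth.Agent.H5.TorCrit
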