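import Mathlib
import Groth.Agent.Lib.Helper5.TorCrit.B
import Groth.Agent.Lib.Helper2.TorIsoResidue

set_option autoImplicit false
open TensorProduct Function CategoryTheory CategoryTheory.Limits
open Groth.Agent.H2.TorBal

universe u

namespace Groth.Agent.H5.TorCrit

theorem main (A : Type u) [CommRing A] (M : Type u) [AddCommGroup M] [Module A M] {r : ℕ}
    (f : Fin r → A)
    (h1 : ∀ i, Module.Flat (Localization.Away (f i)) (LocalizedModule (Submonoid.powers (f i)) M))
    (h2 : Module.Flat (A ⧸ Ideal.span (Set.range f)) ((A ⧸ Ideal.span (Set.range f)) ⊗[A] M))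
    (h3 : ∀ i : ℕ, 1 ≤ i → i ≤ r + 1 →
      IsZero (torObj i (ModuleCat.of A M) (ModuleCat.of A (A ⧸ Ideal.span (Set.range f))))) :
    Module.Flat A M := by
  have hP : ∀ t : ℕ, t ≤ r → ∀ (N : Type u) [AddCommGroup N] [Module A N],
      (∀ j : Fin r, j.val < r - t → ∀ n : N, f j • n = 0) →
      ∀ i, 1 ≤ i → i ≤ r - t + 1 → IsZero (torObj i (ModuleCat.of A M) (ModuleCat.of A N)) := by
    intro t
    induction t with
    | zero =>
      intro _ N _ _ hN i hi1 hi
      refine claimA (Ideal.span (Set.range f)) (r + 1) M h2 h3 N ?_ i hi1 (by omega)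
      intro a ha n
      induction ha using Submodule.span_induction with
      | mem a ha =>
        obtain ⟨j, rfl⟩ := ha
        exact hN j (by have := j.isLt; omega) n
      | zero => simp
      | add a b _ _ ha hb => rw [add_smul, ha, hb, add_zero]
      | smul c a _ ha => rw [smul_eq_mul, mul_smul, ha, smul_zero]
    | succ t ih =>
      intro ht N _ _ hN i hi1 hi
      have hk : r - (t + 1) < r := by omega
      haveI := h1 ⟨r - (t + 1), hk⟩
      refine reduction (f ⟨r - (t + 1), hk⟩) M
        (fun a => ∃ j : Fin r, j.val < r - (t + 1) ∧ a = f j) (r - (t + 1) + 1) ?_ N ?_ i hi1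
        (by omega)
      · intro N' _ _ hN' hx i hi1 hi
        refine ih (by omega) N' ?_ i hi1 (by omega)
        intro j hj n
        by_cases hj' : j.val < r - (t + 1)
        · exact hN' _ ⟨j, hj', rfl⟩ n
        · have : j = ⟨r - (t + 1), hk⟩ := Fin.ext (by simp only; omega)
          rw [this]
          exact hx n
      · rintro a ⟨j, hj, rfl⟩ n
        exact hN j hj n
  have hall : ∀ (N : Type u) [AddCommGroup N] [Module A N],
      IsZero (torObj 1 (ModuleCat.of A M) (ModuleCat.of A N)) := by
    intro N _ _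
    exact hP r le_rfl N (fun j hj => by omega) 1 le_rfl (by omega)
  refine Groth.Agent.H2.TorBal.flat_of_isZero_tor_one M (fun X => ?_)
  obtain ⟨e⟩ := nonempty_tor_symm (ModuleCat.of A M) X 1
  have h := hall X
  exact (h.of_iso (by exact Iso.refl _)).of_iso e.symm

end Groth.Agent.H5.TorCrit
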